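import Mathlib
import Cfsg.Prelude.Def_OddOrderLocal

/-!
Basic theory of the Puig series: antitonicity of the step, alternation and stabilisation of the
series, and self-centralisation of its terms in nilpotent groups.
-/

set_option autoImplicit false

namespace Cfsg.Agent.Lib.Puig.Basic

open Cfsg Subgroup
open scoped commutatorElement

variable {G : Type*} [Group G]

theorem puigStep_anti {X Y : Subgroup G} (h : X ≤ Y) : puigStep Y ≤ puigStep X :=
  sSup_le_sSup fun _ hA => ⟨hA.1, h.trans hA.2⟩

theorem le_puigStep {X A : Subgroup G} (hA : IsMulCommutative A)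
    (hX : X ≤ normalizer (A : Set G)) : A ≤ puigStep X :=
  le_sSup ⟨hA, hX⟩

theorem le_puigStep_of_normal {X A : Subgroup G} (hA : IsMulCommutative A) [A.Normal] :
    A ≤ puigStep X :=
  le_puigStep hA (by rw [normalizer_eq_top]; exact le_top)

theorem puigStep_bot : puigStep (⊥ : Subgroup G) = ⊤ := by
  rw [eq_top_iff]
  intro x _
  exact le_puigStep (A := zpowers x) inferInstance bot_le (mem_zpowers x)

theorem puigSeq_zero : puigSeq G 0 = ⊥ := rfl

theorem puigSeq_succ (n : ℕ) : puigSeq G (n + 1) = puigStep (puigSeq G n) := rfl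

theorem puigSeq_one : puigSeq G 1 = ⊤ := puigStep_bot

theorem puigSeq_two_step (n : ℕ) :
    puigSeq G (2 * n) ≤ puigSeq G (2 * n + 1) ∧ puigSeq G (2 * n) ≤ puigSeq G (2 * n + 2) ∧
      puigSeq G (2 * n + 3) ≤ puigSeq G (2 * n + 1) := by
  induction n with
  | zero =>
    exact ⟨bot_le, bot_le, by rw [show 2 * 0 + 1 = 1 from rfl, puigSeq_one]; exact le_top⟩
  | succ n ih =>
    obtain ⟨h1, h2, h3⟩ := ih
    have a : puigSeq G (2 * n + 2) ≤ puigSeq G (2 * n + 1) := puigStep_anti h1
    have b : puigSeq G (2 * n + 2) ≤ puigSeq G (2 * n + 3) := puigStep_anti a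
    have c : puigSeq G (2 * n + 2) ≤ puigSeq G (2 * n + 4) := puigStep_anti h3
    exact ⟨b, c, puigStep_anti c⟩

theorem puigSeq_even_mono : Monotone fun n => puigSeq G (2 * n) :=
  monotone_nat_of_le_succ fun n => (puigSeq_two_step n).2.1

theorem puigSeq_odd_anti : Antitone fun n => puigSeq G (2 * n + 1) :=
  antitone_nat_of_succ_le fun n => (puigSeq_two_step n).2.2

theorem puigSeq_even_le_odd (n m : ℕ) : puigSeq G (2 * n) ≤ puigSeq G (2 * m + 1) :=
  (puigSeq_even_mono (le_max_left n m)).trans
    ((puigSeq_two_step (max n m)).1.trans (puigSeq_odd_anti (le_max_right n m)))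

theorem puigLower_le_puigSubgroup : puigLower G ≤ puigSubgroup G :=
  iSup_le fun n => le_iInf fun m => puigSeq_even_le_odd n m

/-- Both halves of the Puig series are eventually constant. -/
theorem puigSeq_stable [Finite G] : ∃ k : ℕ, ∀ n : ℕ, k ≤ n →
    puigSeq G (2 * n) = puigLower G ∧ puigSeq G (2 * n + 1) = puigSubgroup G := by
  obtain ⟨a, ha⟩ := WellFoundedGT.monotone_chain_condition
    ⟨fun n => puigSeq G (2 * n), puigSeq_even_mono⟩
  obtain ⟨b, hb⟩ := WellFoundedLT.antitone_chain_condition (f := fun n => puigSeq G (2 * n + 1))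
    puigSeq_odd_anti
  refine ⟨max a b, fun n hn => ⟨le_antisymm (le_iSup (fun m => puigSeq G (2 * m)) n)
    (iSup_le fun m => ?_), le_antisymm (le_iInf fun m => ?_)
      (iInf_le (fun m => puigSeq G (2 * m + 1)) n)⟩⟩
  · rw [← show puigSeq G (2 * a) = puigSeq G (2 * n) from ha n (le_of_max_le_left hn)]
    calc puigSeq G (2 * m) ≤ puigSeq G (2 * max m a) := puigSeq_even_mono (le_max_left m a)
      _ = puigSeq G (2 * a) := (ha _ (le_max_right m a)).symm
  · rw [← show puigSeq G (2 * b + 1) = puigSeq G (2 * n + 1) from hb n (le_of_max_le_right hn)]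
    calc puigSeq G (2 * b + 1) = puigSeq G (2 * max m b + 1) := hb _ (le_max_right m b)
      _ ≤ puigSeq G (2 * m + 1) := puigSeq_odd_anti (le_max_left m b)

theorem puigStep_puigLower [Finite G] : puigStep (puigLower G) = puigSubgroup G := by
  obtain ⟨k, hk⟩ := puigSeq_stable (G := G)
  rw [← (hk k le_rfl).1, ← (hk k le_rfl).2, puigSeq_succ]

theorem puigStep_puigSubgroup [Finite G] : puigStep (puigSubgroup G) = puigLower G := by
  obtain ⟨k, hk⟩ := puigSeq_stable (G := G)
  rw [← (hk k le_rfl).2, ← (hk (k + 1) (Nat.le_succ k)).1]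
  rfl

/-- A maximal abelian normal subgroup of a finite nilpotent group is its own centralizer. -/
theorem exists_normal_self_centralizing (G : Type*) [Group G] [Finite G] [Group.IsNilpotent G] :
    ∃ A : Subgroup G, A.Normal ∧ IsMulCommutative A ∧ centralizer (A : Set G) = A := by
  classical
  obtain ⟨A, ⟨hAn, hAc⟩, hmax⟩ := Set.Finite.exists_maximalFor (id : Subgroup G → Subgroup G)
    {A | A.Normal ∧ IsMulCommutative A} (Set.toFinite _) ⟨⊥, inferInstance, inferInstance⟩
  have := hAn
  refine ⟨A, hAn, hAc, le_antisymm ?_ ?_⟩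
  swap
  · exact le_centralizer A
  by_contra hne
  have hex : ∃ n, ∃ x ∈ centralizer (A : Set G), x ∈ Subgroup.upperCentralSeries G n ∧ x ∉ A := by
    obtain ⟨n, hn⟩ := Group.IsNilpotent.nilpotent G
    obtain ⟨x, hxC, hxA⟩ := SetLike.not_le_iff_exists.mp hne
    exact ⟨n, x, hxC, by rw [hn]; exact mem_top x, hxA⟩
  obtain ⟨x, hxC, hxZ, hxA⟩ := Nat.find_spec hex
  have hpos : Nat.find hex ≠ 0 := by
    intro h0
    rw [h0, Subgroup.upperCentralSeries_zero, mem_bot] at hxZ
    exact hxA (hxZ ▸ one_mem A)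
  obtain ⟨m, hm⟩ := Nat.exists_eq_succ_of_ne_zero hpos
  rw [hm] at hxZ
  have hxg : ∀ g : G, ⁅x, g⁆ ∈ centralizer (A : Set G) := fun g => by
    rw [commutatorElement_def, mul_assoc, mul_assoc]
    refine mul_mem hxC ?_
    rw [← mul_assoc]
    exact Normal.conj_mem inferInstance x⁻¹ (inv_mem hxC) g
  have hcomm : ∀ g : G, ⁅x, g⁆ ∈ A := by
    intro g
    by_contra hg
    exact Nat.find_min hex (by omega : m < Nat.find hex)
      ⟨⁅x, g⁆, hxg g, Subgroup.mem_upperCentralSeries_succ_iff.mp hxZ g, hg⟩
  let B : Subgroup G := closure ((A : Set G) ∪ {x})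
  have hAB : A ≤ B := fun a ha => subset_closure (Or.inl ha)
  have hxB : x ∈ B := subset_closure (Or.inr rfl)
  have hBn : B.Normal := by
    refine ⟨fun b hb g => ?_⟩
    have : B ≤ B.comap (MulAut.conj g).toMonoidHom := by
      refine (closure_le _).mpr ?_
      rintro y (hy | hy)
      · exact hAB (hAn.conj_mem y hy g)
      · rw [Set.mem_singleton_iff] at hy
        subst hy
        change g * y * g⁻¹ ∈ B
        have h1 : g * y * g⁻¹ = ⁅y, g⁆⁻¹ * y := by simp [commutatorElement_def, mul_assoc]
        rw [h1]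
        exact mul_mem (inv_mem (hAB (hcomm g))) hxB
    exact this hb
  have hBc : IsMulCommutative B := by
    refine isMulCommutative_closure ?_
    rintro a (ha | ha) b (hb | hb)
    · exact congrArg Subtype.val (hAc.is_comm.comm ⟨a, ha⟩ ⟨b, hb⟩)
    · rw [Set.mem_singleton_iff] at hb
      subst hb
      exact mem_centralizer_iff.mp hxC a ha
    · rw [Set.mem_singleton_iff] at ha
      subst ha
      exact (mem_centralizer_iff.mp hxC b hb).symm
    · rw [Set.mem_singleton_iff] at ha hb
      rw [ha, hb]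
  exact hxA (hmax ⟨hBn, hBc⟩ hAB hxB)

/-- In a finite nilpotent group the centralizer of a Puig step lies in that step. -/
theorem centralizer_puigStep_le [Finite G] [Group.IsNilpotent G] (X : Subgroup G) :
    centralizer (puigStep X : Set G) ≤ puigStep X := by
  obtain ⟨A, hAn, hAc, hA⟩ := exists_normal_self_centralizing G
  have hle : A ≤ puigStep X := le_puigStep_of_normal hAc
  exact (centralizer_le hle).trans (hA.le.trans hle)

end Cfsg.Agent.Lib.Puig.Basic
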