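import Mathlib
import Cfsg.Agent.Lib.Puig.Basic

/-!
The Puig series of a subgroup `H`, computed inside the ambient group, with its transport along
homomorphisms and the comparison lemmas between a group and a subgroup.
-/

set_option autoImplicit false

namespace Cfsg.Agent.Lib.Puig.Inside

open Cfsg Subgroup
open Cfsg.Agent.Lib.Puig.Basic

variable {G : Type*} [Group G]

/-- One Puig step inside `H`. -/
def stepIn (H X : Subgroup G) : Subgroup G :=
  sSup {A : Subgroup G | A ≤ H ∧ IsMulCommutative A ∧ X ≤ normalizer (A : Set G)}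

/-- The Puig series of `H` as subgroups of `G`. -/
def seqIn (H : Subgroup G) : ℕ → Subgroup G
  | 0 => ⊥
  | n + 1 => stepIn H (seqIn H n)

/-- `L_*(H)` as a subgroup of `G`. -/
def lowerIn (H : Subgroup G) : Subgroup G := (puigLower ↥H).map H.subtype

/-- `L(H)` as a subgroup of `G`. -/
def upperIn (H : Subgroup G) : Subgroup G := (puigSubgroup ↥H).map H.subtype

theorem stepIn_le (H X : Subgroup G) : stepIn H X ≤ H := sSup_le fun _ h => h.1

theorem le_stepIn {H X A : Subgroup G} (hA : A ≤ H) (hc : IsMulCommutative A)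
    (hX : X ≤ normalizer (A : Set G)) : A ≤ stepIn H X := le_sSup ⟨hA, hc, hX⟩

theorem seqIn_le (H : Subgroup G) : ∀ n, seqIn H n ≤ H
  | 0 => bot_le
  | _ + 1 => stepIn_le _ _

/-- An injective homomorphism carries Puig steps to Puig steps inside its range. -/
theorem map_puigStep {K : Type*} [Group K] (f : K →* G) (hf : Function.Injective f)
    (X : Subgroup K) : (puigStep X).map f = stepIn f.range (X.map f) := by
  apply le_antisymm
  · rw [puigStep, sSup_eq_iSup', Subgroup.map_iSup]
    refine iSup_le fun ⟨A, hc, hX⟩ => ?_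
    haveI := hc
    exact le_stepIn (map_le_range f A) inferInstance
      ((map_mono hX).trans (le_normalizer_map f))
  · refine sSup_le fun A ⟨hA, hc, hX⟩ => ?_
    rw [← map_comap_eq_self hA]
    refine map_mono (le_puigStep ?_ fun x hx => ?_)
    · refine ⟨⟨fun a b => Subtype.ext (hf ?_)⟩⟩
      simp only [Subgroup.coe_mul, map_mul]
      exact congrArg Subtype.val (hc.is_comm.comm ⟨_, a.2⟩ ⟨_, b.2⟩)
    · rw [mem_normalizer_iff]
      intro y
      simp only [mem_comap, map_mul, map_inv]
      exact mem_normalizer_iff.mp (hX (mem_map_of_mem f hx)) (f y)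

theorem map_puigSeq {K : Type*} [Group K] (f : K →* G) (hf : Function.Injective f) :
    ∀ n, (puigSeq K n).map f = seqIn f.range n
  | 0 => Subgroup.map_bot f
  | n + 1 => by rw [puigSeq_succ, map_puigStep f hf, map_puigSeq f hf n]; rfl

theorem map_subtype_puigSeq (H : Subgroup G) (n : ℕ) :
    (puigSeq ↥H n).map H.subtype = seqIn H n := by
  rw [map_puigSeq _ H.subtype_injective, range_subtype]

theorem seqIn_even_le_lowerIn (H : Subgroup G) (n : ℕ) : seqIn H (2 * n) ≤ lowerIn H := by
  rw [← map_subtype_puigSeq]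
  exact map_mono (le_iSup (fun n => puigSeq ↥H (2 * n)) n)

theorem upperIn_le_seqIn_odd (H : Subgroup G) (n : ℕ) : upperIn H ≤ seqIn H (2 * n + 1) := by
  rw [← map_subtype_puigSeq]
  exact map_mono (iInf_le (fun n => puigSeq ↥H (2 * n + 1)) n)

theorem lowerIn_le_upperIn (H : Subgroup G) : lowerIn H ≤ upperIn H :=
  map_mono puigLower_le_puigSubgroup

theorem lowerIn_le (H : Subgroup G) : lowerIn H ≤ H := map_subtype_le _

theorem upperIn_le (H : Subgroup G) : upperIn H ≤ H := map_subtype_le _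

variable [Finite G]

theorem stable (H : Subgroup G) : ∃ k, ∀ n, k ≤ n →
    seqIn H (2 * n) = lowerIn H ∧ seqIn H (2 * n + 1) = upperIn H := by
  obtain ⟨k, hk⟩ := puigSeq_stable (G := ↥H)
  refine ⟨k, fun n hn => ?_⟩
  rw [← map_subtype_puigSeq, ← map_subtype_puigSeq, (hk n hn).1, (hk n hn).2]
  exact ⟨rfl, rfl⟩

theorem stepIn_lowerIn (H : Subgroup G) : stepIn H (lowerIn H) = upperIn H := by
  obtain ⟨k, hk⟩ := stable H
  rw [← (hk k le_rfl).1, ← (hk k le_rfl).2]
  rfl

theorem stepIn_upperIn (H : Subgroup G) : stepIn H (upperIn H) = lowerIn H := by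
  obtain ⟨k, hk⟩ := stable H
  rw [← (hk k le_rfl).2, ← (hk (k + 1) (Nat.le_succ k)).1]
  rfl

omit [Finite G] in
/-- If the even terms of `H` up to `2n` lie in `Q ≤ H`, they lie in the corresponding terms of `Q`,
and the next odd term of `Q` lies in that of `H`. -/
theorem seqIn_compare {H Q : Subgroup G} (hQ : Q ≤ H) :
    ∀ n, (∀ j ≤ n, seqIn H (2 * j) ≤ Q) →
      seqIn H (2 * n) ≤ seqIn Q (2 * n) ∧ seqIn Q (2 * n + 1) ≤ seqIn H (2 * n + 1) := by
  intro n
  induction n with
  | zero =>
    intro _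
    refine ⟨le_rfl, sSup_le fun A ⟨hA, hc, hX⟩ => le_stepIn (hA.trans hQ) hc bot_le⟩
  | succ n ih =>
    intro h
    obtain ⟨-, h2⟩ := ih fun j hj => h j (hj.trans (Nat.le_succ n))
    have heven : seqIn H (2 * (n + 1)) ≤ seqIn Q (2 * (n + 1)) :=
      sSup_le fun A ⟨hA, hc, hX⟩ => le_stepIn ((le_stepIn hA hc hX).trans (h (n + 1) le_rfl)) hc
        (h2.trans hX)
    exact ⟨heven, sSup_le fun A ⟨hA, hc, hX⟩ => le_stepIn (hA.trans hQ) hc (heven.trans hX)⟩

theorem between_of_lowerIn_le {H Q : Subgroup G} (hQ : Q ≤ H) (h : lowerIn H ≤ Q) :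
    lowerIn H ≤ lowerIn Q ∧ upperIn Q ≤ upperIn H := by
  obtain ⟨k, hk⟩ := stable H
  obtain ⟨l, hl⟩ := stable Q
  have := seqIn_compare hQ (max k l) fun j _ => (seqIn_even_le_lowerIn H j).trans h
  rw [(hk _ (le_max_left k l)).1, (hk _ (le_max_left k l)).2, (hl _ (le_max_right k l)).1,
    (hl _ (le_max_right k l)).2] at this
  exact this

/-- A subgroup containing `L(H)` has the same Puig subgroup. -/
theorem upperIn_eq_of_upperIn_le {H Q : Subgroup G} (hQ : Q ≤ H) (h : upperIn H ≤ Q) :
    upperIn Q = upperIn H := by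
  have key : ∀ n, seqIn Q (2 * n) ≤ lowerIn H := by
    intro n
    induction n with
    | zero => exact bot_le
    | succ n ih =>
      have hodd : upperIn H ≤ seqIn Q (2 * n + 1) := by
        rw [← stepIn_lowerIn]
        refine sSup_le fun A ⟨hA, hc, hX⟩ => le_stepIn ?_ hc (ih.trans hX)
        exact ((le_stepIn hA hc hX).trans (stepIn_lowerIn H).le).trans h
      rw [← stepIn_upperIn]
      exact sSup_le fun A ⟨hA, hc, hX⟩ => le_stepIn (hA.trans hQ) hc (hodd.trans hX)
  obtain ⟨k, hk⟩ := stable Q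
  refine le_antisymm (between_of_lowerIn_le hQ ((lowerIn_le_upperIn H).trans h)).2 ?_
  rw [← stepIn_lowerIn, ← (hk k le_rfl).2]
  refine sSup_le fun A ⟨hA, hc, hX⟩ => le_stepIn ?_ hc ((key k).trans hX)
  exact ((le_stepIn hA hc hX).trans (stepIn_lowerIn H).le).trans h

theorem map_upperIn {G' : Type*} [Group G'] [Finite G'] (f : G →* G') (H : Subgroup G)
    (hf : Function.Injective (f.comp H.subtype)) : (upperIn H).map f = upperIn (H.map f) := by
  have hr : (f.comp H.subtype).range = H.map f := by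
    rw [MonoidHom.range_comp, range_subtype]
  have hseq : ∀ n, (seqIn H n).map f = seqIn (H.map f) n := fun n => by
    rw [← map_subtype_puigSeq, Subgroup.map_map, map_puigSeq _ hf, hr]
  obtain ⟨k, hk⟩ := stable H
  obtain ⟨l, hl⟩ := stable (H.map f)
  rw [← (hk _ (le_max_left k l)).2, ← (hl _ (le_max_right k l)).2, hseq]

end Cfsg.Agent.Lib.Puig.Inside
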