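import Mathlib
import Cfsg.Agent.Lib.Puig.Inside
import Cfsg.Agent.Lib.OddLocal.PStable
import Cfsg.Agent.Lib.PSolvable.HallHigman
import Cfsg.Agent.Lib.Transfer.Fusion

/-! Puig's theorem for solvable groups of odd order (BG Appendix B). -/

set_option autoImplicit false

namespace Cfsg.Agent.Lib.Puig.Theorem

open Cfsg Subgroup
open Cfsg.Agent.Lib.Puig.Basic Cfsg.Agent.Lib.Puig.Inside Cfsg.Agent.Lib.OddLocal.PStable

universe u

/-- `Z(L(H))` as a subgroup of the ambient group. -/
def centerIn {G : Type u} [Group G] (H : Subgroup G) : Subgroup G :=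
  ((center ↥(puigSubgroup ↥H)).map (puigSubgroup ↥H).subtype).map H.subtype

theorem centerIn_eq {G : Type u} [Group G] (H : Subgroup G) :
    centerIn H = upperIn H ⊓ centralizer (upperIn H : Set G) := by
  apply le_antisymm
  · rintro _ ⟨_, ⟨z, hz, rfl⟩, rfl⟩
    refine ⟨mem_map_of_mem _ z.2, mem_centralizer_iff.mpr ?_⟩
    rintro _ ⟨w, hw, rfl⟩
    exact congrArg (fun t : puigSubgroup ↥H => ((t : ↥H) : G)) (mem_center_iff.mp hz ⟨w, hw⟩)
  · rintro _ ⟨⟨w, hw, rfl⟩, hc⟩
    refine ⟨w, ⟨⟨w, hw⟩, mem_center_iff.mpr fun t => ?_, rfl⟩, rfl⟩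
    exact Subtype.ext (Subtype.ext (mem_centralizer_iff.mp hc _ (mem_map_of_mem _ t.2)))

variable {G : Type u} [Group G] [Finite G] {p : ℕ} [hp : Fact p.Prime]

omit [Finite G] in
theorem le_normalizer_of_map_normal {T : Subgroup G} [T.Normal] (X : Subgroup ↥T) [X.Characteristic] :
    (X.map T.subtype).Normal := ConjAct.normal_of_characteristic_of_normal

theorem puigStep_characteristic {K : Type u} [Group K] (X : Subgroup K) [hX : X.Characteristic] :
    (puigStep X).Characteristic := by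
  rw [characteristic_iff_map_le]
  intro φ
  rw [map_puigStep φ.toMonoidHom φ.injective, characteristic_iff_map_eq.mp hX φ]
  exact sSup_le fun A ⟨_, hc, hA⟩ => Cfsg.Agent.Lib.Puig.Basic.le_puigStep hc hA

theorem puigSeq_characteristic {K : Type u} [Group K] : ∀ n, (puigSeq K n).Characteristic
  | 0 => botCharacteristic
  | n + 1 => by
    haveI := puigSeq_characteristic (K := K) n
    exact puigStep_characteristic _

/-- The even Puig terms of a Sylow subgroup lie in `O_p(G)`. -/
theorem seqIn_even_le_pCore [Group.IsSolvable G] (hodd : Odd (Nat.card G)) (hp2 : p ≠ 2)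
    (hO : pPrimeCore p G = ⊥) (S : Sylow p G) :
    ∀ n, seqIn (S : Subgroup G) (2 * n) ≤ pCore p G := by
  haveI : (pCore p G).Normal := Cfsg.Agent.Lib.PSolvable.pCore_normal'
  have hTS : pCore p G ≤ (S : Subgroup G) := Cfsg.Agent.Lib.Cores.pCore_le_sylow S
  have hTp := Cfsg.Agent.Lib.Cores.pCore_isPGroup (G := G) p
  haveI := hTp.isNilpotent
  intro n
  induction n using Nat.strong_induction_on with
  | _ n ih =>
  obtain _ | n := n
  · exact bot_le
  have hcmp := (seqIn_compare hTS n fun j hj => ih j (Nat.lt_succ_of_le hj)).2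
  -- quadratic action on the normal subgroup `L_{2n+1}(O_p(G))`
  haveI hPn : (seqIn (pCore p G) (2 * n + 1)).Normal := by
    rw [← map_subtype_puigSeq]
    haveI := puigSeq_characteristic (K := ↥(pCore p G)) (2 * n + 1)
    exact le_normalizer_of_map_normal _
  have hPp : IsPGroup p (seqIn (pCore p G) (2 * n + 1)) := hTp.to_le (seqIn_le _ _)
  have hCP : pCore p G ⊓ centralizer (seqIn (pCore p G) (2 * n + 1) : Set G) ≤
      seqIn (pCore p G) (2 * n + 1) := by
    intro z ⟨hzT, hzC⟩
    rw [← map_subtype_puigSeq]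
    refine ⟨⟨z, hzT⟩, centralizer_puigStep_le (puigSeq ↥(pCore p G) (2 * n)) ?_, rfl⟩
    refine mem_centralizer_iff.mpr fun w hw => Subtype.ext (mem_centralizer_iff.mp hzC w ?_)
    rw [← map_subtype_puigSeq]
    exact mem_map_of_mem _ hw
  refine sSup_le fun A ⟨hA, hc, hX⟩ x hx => ?_
  have hC : IsPGroup p (centralizer (seqIn (pCore p G) (2 * n + 1) : Set G)) := by
    let C := centralizer (seqIn (pCore p G) (2 * n + 1) : Set G)
    have hC1 : pPrimeCore p C = ⊥ := by
      have h := Cfsg.Agent.Lib.PSolvable.pPrimeCore_map_le_of_normal (p := p) C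
      rw [hO, le_bot_iff, Subgroup.map_eq_bot_iff, ker_subtype, le_bot_iff] at h
      exact h
    have hle := Cfsg.Agent.Lib.PSolvable.centralizer_pCore_le (p := p) (G := C)
      Cfsg.Agent.Lib.PSolvable.isPSolvable_of_isSolvable hC1
    have hmap : (pCore p C).map C.subtype ≤ pCore p G :=
      Cfsg.Agent.Lib.PSolvable.pCore_map_le_of_normal C
    intro c
    have hcen : c ∈ centralizer ((pCore p C : Subgroup C) : Set C) := by
      refine mem_centralizer_iff.mpr fun d hd => Subtype.ext ?_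
      exact mem_centralizer_iff.mp c.2 _ (hCP ⟨hmap (mem_map_of_mem _ hd), d.2⟩)
    obtain ⟨k, hk⟩ := Cfsg.Agent.Lib.Cores.pCore_isPGroup (G := C) p ⟨c, hle hcen⟩
    exact ⟨k, congrArg Subtype.val hk⟩
  exact mem_pCore_of_quad_of_centralizer hodd hp2 _ hPp hC (isQuad_of_abelian hc (hcmp.trans hX) hx)

theorem puig_inclusions [Group.IsSolvable G] (hodd : Odd (Nat.card G)) (hp2 : p ≠ 2)
    (hO : pPrimeCore p G = ⊥) (S : Sylow p G) :
    lowerIn (S : Subgroup G) ≤ lowerIn (pCore p G) ∧
      lowerIn (pCore p G) ≤ upperIn (pCore p G) ∧ upperIn (pCore p G) ≤ upperIn (S : Subgroup G) := by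
  obtain ⟨k, hk⟩ := stable (S : Subgroup G)
  have h := between_of_lowerIn_le (Cfsg.Agent.Lib.Cores.pCore_le_sylow S)
    ((hk k le_rfl).1 ▸ seqIn_even_le_pCore hodd hp2 hO S k)
  exact ⟨h.1, lowerIn_le_upperIn _, h.2⟩

/-- `Z(L(S))` is normal when `O_{p'}(G) = 1`. -/
theorem centerIn_normal [Group.IsSolvable G] (hodd : Odd (Nat.card G)) (hp2 : p ≠ 2)
    (hO : pPrimeCore p G = ⊥) (S : Sylow p G) : (centerIn (S : Subgroup G)).Normal := by
  obtain ⟨h1, h2, h3⟩ := puig_inclusions hodd hp2 hO S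
  haveI : (pCore p G).Normal := Cfsg.Agent.Lib.PSolvable.pCore_normal'
  haveI : IsMulCommutative (centerIn (pCore p G)) := by
    unfold centerIn; infer_instance
  haveI hUT : (upperIn (pCore p G)).Normal := by
    obtain ⟨k, hk⟩ := stable (pCore p G)
    rw [← (hk k le_rfl).2, ← map_subtype_puigSeq]
    haveI := puigSeq_characteristic (K := ↥(pCore p G)) (2 * k + 1)
    exact le_normalizer_of_map_normal _
  obtain ⟨B, hB⟩ : ∃ B : Subgroup G, B = centerIn (pCore p G) := ⟨_, rfl⟩
  haveI hBn : B.Normal := by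
    rw [hB, centerIn_eq]
    haveI : (centralizer (upperIn (pCore p G) : Set G)).Normal := inferInstance
    exact Subgroup.normal_inf_normal _ _
  have hTS : pCore p G ≤ (S : Subgroup G) := Cfsg.Agent.Lib.Cores.pCore_le_sylow S
  have hBT : B ≤ upperIn (pCore p G) := hB ▸ centerIn_eq (pCore p G) ▸ inf_le_left
  have hBS : B ≤ (S : Subgroup G) := hBT.trans ((upperIn_le _).trans hTS)
  have hBp : IsPGroup p B := S.isPGroup'.to_le hBS
  have hBc : IsMulCommutative B := hB ▸ inferInstance
  have hBlow : B ≤ lowerIn (S : Subgroup G) := by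
    rw [← stepIn_upperIn]
    exact le_stepIn hBS hBc le_normalizer_of_normal
  let K : Subgroup G := (pCore p (G ⧸ centralizer (B : Set G))).comap
    (QuotientGroup.mk' (centralizer (B : Set G)))
  haveI hKn : K.Normal := Normal.comap inferInstance _
  have hLK : upperIn (S : Subgroup G) ≤ K := by
    rw [← stepIn_lowerIn]
    exact sSup_le fun A ⟨_, hc, hX⟩ x hx =>
      mem_pCore_of_quad hodd hp2 B hBp (isQuad_of_abelian hc (hBlow.trans hX) hx)
  let Q : Subgroup G := (S : Subgroup G) ⊓ K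
  have hLQ : upperIn Q = upperIn (S : Subgroup G) :=
    upperIn_eq_of_upperIn_le inf_le_left (le_inf (upperIn_le _) hLK)
  have hZQ : centerIn Q = centerIn (S : Subgroup G) := by
    rw [centerIn_eq, centerIn_eq, hLQ]
  -- `Z(L(S)) ≤ Z(L(O_p(G)))`
  have hZB : centerIn (S : Subgroup G) ≤ B := by
    rw [hB, centerIn_eq, centerIn_eq]
    intro z ⟨hzL, hzC⟩
    refine ⟨?_, centralizer_le h3 hzC⟩
    obtain ⟨w, hw, rfl⟩ := hzL
    haveI := S.isPGroup'.isNilpotent
    have hwlow : w ∈ puigLower ↥(S : Subgroup G) := by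
      rw [← puigStep_puigSubgroup]
      refine centralizer_puigStep_le _ (mem_centralizer_iff.mpr fun v hv => Subtype.ext ?_)
      rw [puigStep_puigSubgroup] at hv
      exact mem_centralizer_iff.mp hzC _ (mem_map_of_mem _ (puigLower_le_puigSubgroup hv))
    exact h2 (h1 (mem_map_of_mem _ hwlow))
  -- Frattini argument
  rw [← normalizer_eq_top_iff, eq_top_iff]
  obtain ⟨P, hP⟩ := Cfsg.Agent.Lib.Transfer.Fusion.exists_sylow_map_eq_inf K S
  have hfr := Sylow.normalizer_sup_eq_top P
  rw [hP, inf_comm] at hfr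
  -- `K` is generated by `C(B)` and `Q`
  have hKsup : K ≤ centralizer (B : Set G) ⊔ Q := by
    have hmap : (P : Subgroup K).map (((QuotientGroup.mk' (centralizer (B : Set G))).comp K.subtype)) =
        K.map (QuotientGroup.mk' (centralizer (B : Set G))) := by
      have hsurj := ((QuotientGroup.mk' (centralizer (B : Set G))).comp K.subtype).rangeRestrict_surjective
      have hr : ((QuotientGroup.mk' (centralizer (B : Set G))).comp K.subtype).range =
          pCore p (G ⧸ centralizer (B : Set G)) := by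
        rw [MonoidHom.range_comp, range_subtype]
        exact map_comap_eq_self_of_surjective (QuotientGroup.mk'_surjective _) _
      have hpg : IsPGroup p ((QuotientGroup.mk' (centralizer (B : Set G))).comp K.subtype).range :=
        hr ▸ Cfsg.Agent.Lib.Cores.pCore_isPGroup p
      let f' := ((QuotientGroup.mk' (centralizer (B : Set G))).comp K.subtype).rangeRestrict
      have htop : (P : Subgroup K).map f' = ⊤ := by
        rw [← Sylow.coe_mapSurjective hsurj P]
        exact ((P.mapSurjective (f := f') hsurj).3 (hpg.to_subgroup ⊤) le_top).symm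
      apply le_antisymm
      · rintro _ ⟨w, -, rfl⟩
        exact mem_map_of_mem _ w.2
      · rintro _ ⟨k, hk, rfl⟩
        obtain ⟨w, hw, hwk⟩ : f' ⟨k, hk⟩ ∈ (P : Subgroup K).map f' := htop ▸ mem_top _
        exact ⟨w, hw, congrArg Subtype.val hwk⟩
    rw [← Subgroup.map_map, hP, inf_comm] at hmap
    have h4 := congrArg (fun X => X.comap (QuotientGroup.mk' (centralizer (B : Set G)))) hmap
    simp only [comap_map_eq, QuotientGroup.ker_mk'] at h4
    exact (le_sup_left.trans h4.ge).trans (le_of_eq (sup_comm _ _))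
  have hCN : centralizer (B : Set G) ≤ normalizer (centerIn (S : Subgroup G) : Set G) :=
    (centralizer_le hZB).trans (centralizer_le_normalizer _)
  have hNQ : normalizer (Q : Set G) ≤ normalizer (centerIn (S : Subgroup G) : Set G) := by
    rw [← hZQ]
    intro g hg
    have hQe : Q.map (MulAut.conj g).toMonoidHom = Q := by
      refine eq_of_le_of_card_ge ?_ (card_map_of_injective (MulAut.conj g).injective).ge
      rintro _ ⟨y, hy, rfl⟩
      exact (mem_normalizer_iff.mp hg y).mp hy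
    have hUe : (upperIn Q).map (MulAut.conj g).toMonoidHom = upperIn Q := by
      rw [map_upperIn _ Q ((MulAut.conj g).injective.comp Q.subtype_injective), hQe]
    rw [centerIn_eq, mem_normalizer_iff]
    have fwd : ∀ k : G, (upperIn Q).map (MulAut.conj k).toMonoidHom = upperIn Q →
        ∀ y ∈ upperIn Q ⊓ centralizer (upperIn Q : Set G),
          k * y * k⁻¹ ∈ upperIn Q ⊓ centralizer (upperIn Q : Set G) := by
      intro k hk y ⟨hy, hyc⟩
      refine ⟨hk ▸ ⟨y, hy, rfl⟩, mem_centralizer_iff.mpr fun w hw => ?_⟩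
      rw [← hk] at hw
      obtain ⟨v, hv, rfl⟩ := hw
      change k * v * k⁻¹ * (k * y * k⁻¹) = k * y * k⁻¹ * (k * v * k⁻¹)
      rw [conj_mul, conj_mul, mem_centralizer_iff.mp hyc v hv]
    intro y
    refine ⟨fwd g hUe y, fun hy => ?_⟩
    have hUe' : (upperIn Q).map (MulAut.conj g⁻¹).toMonoidHom = upperIn Q := by
      conv_lhs => rw [← hUe, Subgroup.map_map]
      ext w
      simp [mem_map, mul_assoc]
    have h5 := fwd g⁻¹ hUe' _ hy
    simpa [mul_assoc] using h5
  rw [← hfr]
  refine sup_le hNQ (hKsup.trans (sup_le hCN ?_))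
  exact le_normalizer.trans hNQ

/-- Puig's theorem. -/
theorem puig_factorization [Group.IsSolvable G] (hodd : Odd (Nat.card G)) (hp2 : p ≠ 2)
    (S : Sylow p G) : pPrimeCore p G ⊔ normalizer (centerIn (S : Subgroup G) : Set G) = ⊤ := by
  let N := pPrimeCore p G
  let f := QuotientGroup.mk' N
  let S' : Sylow p (G ⧸ N) := S.mapSurjective (f := f) (QuotientGroup.mk'_surjective N)
  have hodd' : Odd (Nat.card (G ⧸ N)) := hodd.of_dvd_nat (card_quotient_dvd_card N)
  have hn := centerIn_normal hodd' hp2 (Cfsg.Agent.Lib.PSolvable.pPrimeCore_quotient_eq_bot N rfl) S'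
  have hinj : Function.Injective (f.comp (S : Subgroup G).subtype) := by
    rw [injective_iff_map_eq_one]
    intro s hs
    have hsN : (s : G) ∈ N := (QuotientGroup.eq_one_iff _).mp hs
    obtain ⟨m, hm⟩ := IsPGroup.iff_orderOf.mp S.isPGroup' s
    rw [← orderOf_eq_one_iff]
    refine Nat.eq_one_of_dvd_coprimes
      ((Cfsg.Agent.Lib.Cores.pPrimeCore_coprime (G := G) p).pow_right m) ?_ hm.dvd
    rw [← Subgroup.orderOf_coe]
    exact orderOf_dvd_natCard N hsN
  obtain ⟨Z, hZ⟩ : ∃ Z : Subgroup G, Z = centerIn (S : Subgroup G) := ⟨_, rfl⟩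
  rw [← hZ]
  have hZmap : Z.map f = centerIn (S' : Subgroup (G ⧸ N)) := by
    have hS' : (S' : Subgroup (G ⧸ N)) = (S : Subgroup G).map f := Sylow.coe_mapSurjective _ _
    rw [hZ, centerIn_eq, centerIn_eq, hS', ← map_upperIn f _ hinj]
    apply le_antisymm
    · rintro _ ⟨z, ⟨hz, hzc⟩, rfl⟩
      refine ⟨mem_map_of_mem f hz, mem_centralizer_iff.mpr ?_⟩
      rintro _ ⟨w, hw, rfl⟩
      rw [← map_mul, ← map_mul, mem_centralizer_iff.mp hzc w hw]
    · rintro _ ⟨⟨z, hz, rfl⟩, hzc⟩
      refine mem_map_of_mem f ⟨hz, mem_centralizer_iff.mpr fun w hw => ?_⟩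
      have hzS := upperIn_le _ hz
      have hwS := upperIn_le _ hw
      exact congrArg Subtype.val (hinj (a₁ := ⟨w, hwS⟩ * ⟨z, hzS⟩) (a₂ := ⟨z, hzS⟩ * ⟨w, hwS⟩) (by
        simpa using mem_centralizer_iff.mp hzc (f w) (mem_map_of_mem f hw)))
  haveI hNn : N.Normal := inferInstance
  haveI hM : (N ⊔ Z).Normal := by
    have : N ⊔ Z = (Z.map f).comap f := by rw [comap_map_eq, QuotientGroup.ker_mk', sup_comm]
    rw [this, hZmap]
    exact Normal.comap hn _
  have hZS : Z ≤ (S : Subgroup G) := hZ ▸ (centerIn_eq (S : Subgroup G) ▸ inf_le_left.trans (upperIn_le _))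
  have hZp : IsPGroup p Z := S.isPGroup'.to_le hZS
  have hle : Z ≤ N ⊔ Z := le_sup_right
  have hidx : ¬ p ∣ (Z.subgroupOf (N ⊔ Z)).index := by
    have h1 := (Z.subgroupOf (N ⊔ Z)).card_mul_index
    rw [Nat.card_congr (subgroupOfEquivOfLe hle).toEquiv] at h1
    have h2 : Nat.card ↥(N ⊔ Z) ∣ Nat.card Z * Nat.card N := by
      rw [sup_comm]
      exact Cfsg.Agent.Lib.PSolvable.card_sup_dvd_mul Z N
    rw [← h1] at h2
    intro hd
    exact hp.out.ne_one (Nat.eq_one_of_dvd_coprimes (Cfsg.Agent.Lib.Cores.pPrimeCore_coprime (G := G) p)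
      (hd.trans (Nat.dvd_of_mul_dvd_mul_left Nat.card_pos h2)) dvd_rfl)
  let P : Sylow p ↥(N ⊔ Z) :=
    (IsPGroup.comap_subtype hZp : IsPGroup p (Z.subgroupOf (N ⊔ Z))).toSylow hidx
  have hfr := Sylow.normalizer_sup_eq_top P
  rw [show (P : Subgroup ↥(N ⊔ Z)).map (N ⊔ Z).subtype = Z from map_subgroupOf_eq_of_le hle] at hfr
  rw [← top_le_iff, ← hfr]
  exact sup_le le_sup_right (sup_le_sup_left le_normalizer _)

end Cfsg.Agent.Lib.Puig.Theorem
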